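import Cfsg.Agent.H973.RankMod.Prin

/-!
# Linear relations modulo `V` respect the blocks (S4880, piece B3)
-/

set_option autoImplicit false

namespace Cfsg.Agent.H973.RankMod

open Cfsg IsLocalRing Module Cfsg.Agent.H657 Cfsg.Agent.H634.OneP Cfsg.Agent.H608.BlockRank

universe u

variable {G : Type u} [Group G] [Finite G] {p : ℕ} {M : Ideal AlgInt} {V : ValuationSubring ℂ}

/-- Linear relations modulo `V` respect unions of blocks. -/
theorem union_indep (hM : IsPModular p M) (hV : Above M V) (b : IrrCharacter G → ResidueField V)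
    (h : ∀ s : G, ¬ p ∣ orderOf s → ∑ᶠ χ : IrrCharacter G, b χ * rd V (χ : G → ℂ) s = 0)
    {B : Set (IrrCharacter G)} (hB : IsUnion M B) :
    ∀ s : G, ¬ p ∣ orderOf s → ∑ᶠ χ ∈ B, b χ * rd V (χ : G → ℂ) s = 0 := by
  classical
  have := Characters.Core.finite_irr (G := G)
  have := Fintype.ofFinite (IrrCharacter G)
  set F : IrrCharacter G → ({s : G // ¬ p ∣ orderOf s} → ResidueField V) :=
    fun χ => res p (rd V (χ : G → ℂ)) with hF
  set u := ∑ χ with χ ∈ B, b χ • F χ with hu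
  set v := ∑ χ with χ ∉ B, b χ • F χ with hv
  have h2 : u + v = 0 := by
    rw [hu, hv, Finset.sum_filter_add_sum_filter_not]
    funext s
    rw [Finset.sum_apply, Pi.zero_apply, ← h s s.2, finsum_eq_sum_of_fintype]
    rfl
  have hu1 : u ∈ Submodule.span (ResidueField V) (F '' B) :=
    Submodule.sum_mem _ fun χ hχ => Submodule.smul_mem _ _
      (Submodule.subset_span ⟨χ, (Finset.mem_filter.1 hχ).2, rfl⟩)
  have hv1 : v ∈ Submodule.span (ResidueField V) (F '' Bᶜ) :=
    Submodule.sum_mem _ fun χ hχ => Submodule.smul_mem _ _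
      (Submodule.subset_span ⟨χ, (Finset.mem_filter.1 hχ).2, rfl⟩)
  have hu' := span_rd_le hM hV B hu1
  have hv' := span_rd_le hM hV Bᶜ hv1
  have hdisj : Disjoint (ibrUnder V B) (ibrUnder V Bᶜ) := by
    rw [Set.disjoint_left]
    rintro j ⟨χ₁, hχ₁, h1⟩ ⟨χ₂, hχ₂, h2⟩
    exact hχ₂ (hB χ₁ χ₂ (under_sameBlock hM hV χ₁.2 χ₂.2 h1 h2) hχ₁)
  have hd := (linearIndependent_res (G := G) hM hV).disjoint_span_image hdisj
  rw [Submodule.disjoint_def] at hd
  have h3 : u = -v := eq_neg_of_add_eq_zero_left h2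
  have h4 := hd u hu' (by rw [h3]; exact Submodule.neg_mem _ hv')
  intro s hs
  have h5 := congrFun h4 ⟨s, hs⟩
  rw [hu, Finset.sum_apply, Pi.zero_apply] at h5
  rw [finsum_mem_eq_finite_toFinset_sum _ (Set.toFinite B), ← h5]
  refine Finset.sum_congr ?_ fun χ _ => rfl
  ext χ
  simp

/-- **B3.** Linear relations modulo `V` respect the blocks. -/
theorem block_indep (hM : IsPModular p M) (hV : Above M V) (b : IrrCharacter G → ResidueField V)
    (h : ∀ s : G, ¬ p ∣ orderOf s → ∑ᶠ χ : IrrCharacter G, b χ * rd V (χ : G → ℂ) s = 0)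
    {B : Set (IrrCharacter G)} (hB : IsPBlock M B) :
    ∀ s : G, ¬ p ∣ orderOf s → ∑ᶠ χ ∈ B, b χ * rd V (χ : G → ℂ) s = 0 := by
  have := Blocks.Local.isPrime_of_isPModular hM
  exact union_indep hM hV b h (isUnion_of_isPBlock hB)

end Cfsg.Agent.H973.RankMod
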