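import Cfsg.Agent.H973.RankMod.Prin
import Cfsg.Agent.H963.OneP.Coeff

/-!
# The rank modulo `V` of the principal block (S4880, piece B5)
-/

set_option autoImplicit false

namespace Cfsg.Agent.H973.RankMod

open Cfsg IsLocalRing Cfsg.Agent.H657 Cfsg.Agent.H634.OneP

universe u

variable {G : Type u} [Group G] [Finite G] {p : ℕ} [hp : Fact p.Prime] {M : Ideal AlgInt}
  {V : ValuationSubring ℂ}

/-- **B5.** The rank modulo `V` of the principal block is at least `blockRank`. -/
theorem rank_mod (hM : IsPModular p M) (hV : Above M V) :
    blockRank p (principalBlock M G) ≤ Module.finrank (ResidueField V)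
      (Submodule.span (ResidueField V)
        ((fun χ : IrrCharacter G => fun s : {s : G // ¬ p ∣ orderOf s} => rd V (χ : G → ℂ) s) ''
          (principalBlock M G))) :=
  rank_mod_prin hM hV (Cfsg.Agent.H963.OneP.exists_coeff hM hV)

end Cfsg.Agent.H973.RankMod
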