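import Cfsg.Agent.H634.OneP.Def

/-!
# The rank modulo `V` of a union of blocks (S4880, piece B5)

`rank_mod_of`: if the reductions of the irreducible characters span the class functions on the
`p`-regular elements (piece B2, as a hypothesis), then for a union of blocks `B` the reductions of
the members of `B` span a space of dimension at least `blockRank p B`.
-/

set_option autoImplicit false

namespace Cfsg.Agent.H973.RankMod

open Cfsg IsLocalRing Module Cfsg.Agent.H657 Cfsg.Agent.H634.OneP Cfsg.Agent.H608.BlockRank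

universe u

attribute [local instance] Above.isAlgClosed

variable {G : Type u} [Group G] [Finite G] {p : ℕ} {M : Ideal AlgInt} {V : ValuationSubring ℂ}

/-- The restriction to the `p`-regular elements. -/
def res (p : ℕ) {K : Type*} (f : G → K) : {s : G // ¬ p ∣ orderOf s} → K := fun s => f s

/-- The irreducible modular characters are linearly independent on the `p`-regular elements. -/
theorem linearIndependent_res (hM : IsPModular p M) (hV : Above M V) :
    LinearIndependent (ResidueField V)
      (fun i : IBr V G => (res p (i.1 : G → ResidueField V))) := by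
  classical
  have : Fact p.Prime := ⟨hM.1⟩
  have : CharP (ResidueField V) p := hV.charP hM
  have := Fintype.ofFinite (IBr V G)
  rw [Fintype.linearIndependent_iff]
  intro c hc
  refine Fintype.linearIndependent_iff.1 (linearIndependent_ibr (V := V) (G := G)) c ?_
  funext g
  obtain ⟨x, y, hxy, hcomm, ⟨k, hk⟩, hy⟩ := Blocks.PPart.exists_isPPart p g
  have hx : x ^ p ^ k = 1 := by rw [← hk, pow_orderOf_eq_one]
  have h1 := congrFun hc ⟨y, hy⟩
  rw [Finset.sum_apply, Pi.zero_apply] at h1 ⊢
  rw [← h1]
  refine Finset.sum_congr rfl fun i _ => ?_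
  show c i * i.1 g = c i * i.1 y
  rw [← hxy, ibr_apply_pPart i hcomm hx]

/-- The reduction of an irreducible character on the `p`-regular elements is a sum of irreducible
modular characters under it. -/
theorem rd_mem_span (hM : IsPModular p M) (hV : Above M V) (χ : IrrCharacter G) :
    res p (rd V (χ : G → ℂ)) ∈ Submodule.span (ResidueField V)
      ((fun i : IBr V G => res p (i.1 : G → ResidueField V)) '' {i | Under i (χ : G → ℂ)}) := by
  have : Fact p.Prime := ⟨hM.1⟩
  have : CharP (ResidueField V) p := hV.charP hM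
  obtain ⟨m, idx, h1, h2⟩ := exists_decomp hM hV χ.2
  have h3 : res p (rd V (χ : G → ℂ)) = ∑ l, res p ((idx l).1 : G → ResidueField V) := by
    funext s
    rw [Finset.sum_apply]
    choose z hz1 hz2 using fun l => phi_spec (p := p) (idx l) (g := (s : G)) s.2
    have h4 : (χ : G → ℂ) s = ((∑ l, z l : V) : ℂ) := by
      rw [h2 s s.2]
      push_cast
      exact Finset.sum_congr rfl fun l _ => hz1 l
    have h5 : (χ : G → ℂ) s ∈ V := by rw [h4]; exact (∑ l, z l : V).2
    show rd V (χ : G → ℂ) s = ∑ l, (idx l).1 s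
    rw [rd_of h5]
    have h6 : (⟨(χ : G → ℂ) s, h5⟩ : V) = ∑ l, z l := Subtype.ext h4
    rw [h6, map_sum]
    exact Finset.sum_congr rfl fun l _ => hz2 l
  rw [h3]
  exact Submodule.sum_mem _ fun l _ => Submodule.subset_span ⟨_, h1 l, rfl⟩

theorem span_rd_le (hM : IsPModular p M) (hV : Above M V) (B : Set (IrrCharacter G)) :
    Submodule.span (ResidueField V) ((fun χ : IrrCharacter G => res p (rd V (χ : G → ℂ))) '' B) ≤
      Submodule.span (ResidueField V)
        ((fun i : IBr V G => res p (i.1 : G → ResidueField V)) '' ibrUnder V B) := by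
  rw [Submodule.span_le]
  rintro _ ⟨χ, hχ, rfl⟩
  refine Submodule.span_mono (Set.image_mono ?_) (rd_mem_span hM hV χ)
  exact fun i hi => ⟨χ, hχ, hi⟩

/-- Each irreducible modular character in `B` is on the `p`-regular elements a combination of the
reductions of the members of `B`. -/
theorem ibr_mem_span (hM : IsPModular p M) (hV : Above M V)
    (hB2 : ∀ f : G → ResidueField V, (∀ g h : G, f (h * g * h⁻¹) = f g) →
      ∃ a : IrrCharacter G → ResidueField V, ∀ g : G, ¬ p ∣ orderOf g →
        f g = ∑ᶠ χ : IrrCharacter G, a χ * rd V (χ : G → ℂ) g)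
    {B : Set (IrrCharacter G)} (hB : IsUnion M B) {i : IBr V G} (hi : i ∈ ibrUnder V B) :
    res p (i.1 : G → ResidueField V) ∈ Submodule.span (ResidueField V)
      ((fun χ : IrrCharacter G => res p (rd V (χ : G → ℂ))) '' B) := by
  classical
  have := Characters.Core.finite_irr (G := G)
  have := Fintype.ofFinite (IrrCharacter G)
  have hconj : ∀ g h : G, i.1 (h * g * h⁻¹) = i.1 g := by
    intro g h
    rw [← i.trace_rep, ← i.trace_rep, i.rep.map_mul, LinearMap.trace_mul_comm, ← i.rep.map_mul,
      inv_mul_cancel_left]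
  obtain ⟨a, ha⟩ := hB2 i.1 hconj
  set F : IrrCharacter G → ({s : G // ¬ p ∣ orderOf s} → ResidueField V) :=
    fun χ => res p (rd V (χ : G → ℂ)) with hF
  have h1 : res p (i.1 : G → ResidueField V) = ∑ χ : IrrCharacter G, a χ • F χ := by
    funext s
    rw [Finset.sum_apply]
    show i.1 s = _
    rw [ha s s.2, finsum_eq_sum_of_fintype]
    rfl
  set u := ∑ χ with χ ∈ B, a χ • F χ with hu
  set v := ∑ χ with χ ∉ B, a χ • F χ with hv
  have h2 : res p (i.1 : G → ResidueField V) = u + v := by
    rw [h1, hu, hv]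
    exact (Finset.sum_filter_add_sum_filter_not _ _ _).symm
  have hu1 : u ∈ Submodule.span (ResidueField V) (F '' B) :=
    Submodule.sum_mem _ fun χ hχ => Submodule.smul_mem _ _
      (Submodule.subset_span ⟨χ, (Finset.mem_filter.1 hχ).2, rfl⟩)
  have hv1 : v ∈ Submodule.span (ResidueField V) (F '' Bᶜ) :=
    Submodule.sum_mem _ fun χ hχ => Submodule.smul_mem _ _
      (Submodule.subset_span ⟨χ, (Finset.mem_filter.1 hχ).2, rfl⟩)
  have hu' := span_rd_le hM hV B hu1
  have hv' := span_rd_le hM hV Bᶜ hv1
  have hdisj : Disjoint (ibrUnder V B) (ibrUnder V Bᶜ) := by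
    rw [Set.disjoint_left]
    rintro j ⟨χ₁, hχ₁, h1⟩ ⟨χ₂, hχ₂, h2⟩
    exact hχ₂ (hB χ₁ χ₂ (under_sameBlock hM hV χ₁.2 χ₂.2 h1 h2) hχ₁)
  have hd := (linearIndependent_res (G := G) hM hV).disjoint_span_image hdisj
  rw [Submodule.disjoint_def] at hd
  have h3 : v = res p (i.1 : G → ResidueField V) - u := by rw [h2]; abel
  have h4 := hd v (by
    rw [h3]
    exact Submodule.sub_mem _ (Submodule.subset_span ⟨i, hi, rfl⟩) hu') hv'
  rw [h2, h4, add_zero]
  exact hu1

/-- **The rank modulo `V`**, piece B2 of the plan being a hypothesis. -/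
theorem rank_mod_of (hM : IsPModular p M) (hV : Above M V)
    (hB2 : ∀ f : G → ResidueField V, (∀ g h : G, f (h * g * h⁻¹) = f g) →
      ∃ a : IrrCharacter G → ResidueField V, ∀ g : G, ¬ p ∣ orderOf g →
        f g = ∑ᶠ χ : IrrCharacter G, a χ * rd V (χ : G → ℂ) g)
    {B : Set (IrrCharacter G)} (hB : IsUnion M B) :
    blockRank p B ≤ finrank (ResidueField V)
      (Submodule.span (ResidueField V)
        ((fun χ : IrrCharacter G => fun s : {s : G // ¬ p ∣ orderOf s} => rd V (χ : G → ℂ) s) ''
          B)) := by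
  classical
  rw [blockRank_eq_card hM hV hB]
  have := Fintype.ofFinite (ibrUnder V B)
  have h2 : LinearIndependent (ResidueField V)
      (fun i : ibrUnder V B => res p ((i : IBr V G).1 : G → ResidueField V)) :=
    (linearIndependent_res (G := G) hM hV).comp _ Subtype.val_injective
  rw [Nat.card_eq_fintype_card, ← finrank_span_eq_card h2]
  refine Submodule.finrank_mono ?_
  rw [Submodule.span_le]
  rintro _ ⟨i, rfl⟩
  exact ibr_mem_span hM hV hB2 hB i.2

end Cfsg.Agent.H973.RankMod
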