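import Cfsg.Agent.H973.RankMod.Base
import Cfsg.Agent.Blocks.PrincipalSection

/-!
# The rank modulo `V` of the principal block (S4880, piece B5), from piece B2
-/

set_option autoImplicit false

namespace Cfsg.Agent.H973.RankMod

open Cfsg IsLocalRing Module Cfsg.Agent.H657 Cfsg.Agent.H634.OneP Cfsg.Agent.H608.BlockRank

universe u

variable {G : Type u} [Group G] [Finite G] {p : ℕ} {M : Ideal AlgInt} {V : ValuationSubring ℂ}

theorem isUnion_principalBlock (hM : IsPModular p M) : IsUnion M (principalBlock M G) := by
  have := Blocks.Local.isPrime_of_isPModular hM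
  have : Fact p.Prime := ⟨hM.1⟩
  exact isUnion_of_isPBlock Blocks.PrincipalSection.isPBlock_principalBlock

/-- **B5 from B2.** -/
theorem rank_mod_prin (hM : IsPModular p M) (hV : Above M V)
    (hB2 : ∀ f : G → ResidueField V, (∀ g h : G, f (h * g * h⁻¹) = f g) →
      ∃ a : IrrCharacter G → ResidueField V, ∀ g : G, ¬ p ∣ orderOf g →
        f g = ∑ᶠ χ : IrrCharacter G, a χ * rd V (χ : G → ℂ) g) :
    blockRank p (principalBlock M G) ≤ finrank (ResidueField V)
      (Submodule.span (ResidueField V)
        ((fun χ : IrrCharacter G => fun s : {s : G // ¬ p ∣ orderOf s} => rd V (χ : G → ℂ) s) ''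
          (principalBlock M G))) :=
  rank_mod_of hM hV hB2 (isUnion_principalBlock hM)

end Cfsg.Agent.H973.RankMod
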